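import Cfsg.Agent.Lib.LBalanceTwo.Iteration
import Cfsg.Agent.Lib.ZStar.SylowCentralizer
import Cfsg.Agent.Lib.ZStar.LBalance
import Cfsg.Agent.Lib.Signalizer.LayerBasic
import Cfsg.Agent.Lib.Coprime.Quotient

/-!
Core balance for the prime 2: `O(C_X(R)) ≤ L*_{2'}(X)` for every 2-subgroup `R` of a finite group
`X`, and balance of the extended 2-layer.  Only the Z*-theorem is needed.
-/

set_option autoImplicit false

namespace Cfsg.Agent.Lib.CoreBalance

open Subgroup
open Cfsg.Agent.Lib

universe u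

variable {X : Type u} [Group X] [Finite X]

theorem coprime_card_of_forall {D : Subgroup X} (h : ∀ g ∈ D, (orderOf g).Coprime 2) :
    (Nat.card D).Coprime 2 := by
  haveI : Fact (Nat.Prime 2) := ⟨Nat.prime_two⟩
  exact ((Nat.Prime.coprime_iff_not_dvd Nat.prime_two).mpr
    ((Transfer.not_dvd_card_iff_forall_coprime D).mpr h)).symm

theorem sup_pPrimePCore_eq (hO : Cfsg.pPrimeCore 2 X = ⊥) :
    Cfsg.pLayer 2 X ⊔ Cfsg.pPrimePCore 2 X = Cfsg.generalizedFittingSubgroup X := by
  haveI : Fact (Nat.Prime 2) := ⟨Nat.prime_two⟩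
  rw [Cfsg.generalizedFittingSubgroup, Components.pLayer_of_pPrimeCore_eq_bot hO,
    PSolvable.pPrimePCore_of_pPrimeCore_eq_bot hO,
    Components.fittingSubgroup_le_pCore_of_pPrimeCore_eq_bot hO]

/-- A centraliser of a Sylow 2-subgroup of `F*(X)` has a normal 2-complement when `O(X) = 1`. -/
theorem hasNormalPComplement_centralizer (hO : Cfsg.pPrimeCore 2 X = ⊥) {T : Subgroup X}
    (hT : IsPGroup 2 T) (hTF : T ≤ Cfsg.generalizedFittingSubgroup X)
    (hi : ¬ 2 ∣ T.relIndex (Cfsg.generalizedFittingSubgroup X)) :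
    Cfsg.HasNormalPComplement 2 (centralizer (T : Set X)) := by
  haveI : Fact (Nat.Prime 2) := ⟨Nat.prime_two⟩
  set F := Cfsg.generalizedFittingSubgroup X with hF
  haveI hFn : F.Normal := Components.generalizedFittingSubgroup_normal
  have hOF : Cfsg.oddCore F = ⊥ := by
    rw [← map_eq_bot_iff_of_injective _ F.subtype_injective, ← le_bot_iff, ← hO]
    exact Components.map_pPrimeCore_le_of_subnormal hFn.isSubnormal
  let S : Sylow 2 F := (hT.comap_subtype (K := F)).toSylow hi
  set C := centralizer (T : Set X) with hC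
  let ψ : X →* MulAut F := MulAut.conjNormal
  have hA : ∀ a ∈ C.map ψ, ∀ s ∈ (S : Subgroup F), a s = s := by
    rintro _ ⟨c, hc, rfl⟩ s hs
    apply Subtype.ext
    have h := mem_centralizer_iff.mp hc (s : X) hs
    show c * (s : X) * c⁻¹ = s
    rw [← h, mul_inv_cancel_right]
  have hloc := Transfer.locallyPTrivial_of_hasNormalPComplement
    (ZStar.SylowCentralizer.hasNormalPComplement hOF S (C.map ψ) hA)
  rw [Transfer.hasNormalPComplement_iff_locallyPTrivial]
  intro Q hQ g hg hgo
  set φ := ψ.subgroupMap C with hφ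
  have hφg : φ g ∈ normalizer ((Q.map φ : Subgroup (C.map ψ)) : Set (C.map ψ)) := by
    refine PSolvable.mem_normalizer_of_conj_mem ?_
    rintro _ ⟨q, hq, rfl⟩
    exact ⟨g * q * g⁻¹, (mem_normalizer_iff.mp hg q).mp hq, by simp⟩
  have hcent := hloc (Q.map φ) (hQ.map φ) (φ g) hφg (hgo.coprime_dvd_left (orderOf_map_dvd φ g))
  rw [mem_centralizer_iff]
  intro q hq
  set e := g * q * g⁻¹ * q⁻¹ with he
  have heQ : e ∈ Q := Q.mul_mem ((mem_normalizer_iff.mp hg q).mp hq) (Q.inv_mem hq)
  have hψe : ψ (e : X) = 1 := by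
    have h1 : φ e = 1 := by
      rw [he]
      simp only [map_mul, map_inv]
      rw [← mem_centralizer_iff.mp hcent (φ q) (mem_map_of_mem φ hq)]
      group
    exact congrArg Subtype.val h1
  have hec : (e : X) ∈ centralizer (F : Set X) := by
    refine mem_centralizer_iff.mpr fun f hf => ?_
    have h1 : (e : X) * f * (e : X)⁻¹ = f :=
      congrArg Subtype.val (DFunLike.congr_fun hψe (⟨f, hf⟩ : F))
    exact (mul_inv_eq_iff_eq_mul.mp h1).symm
  have heF : (e : X) ∈ F := Components.centralizer_generalizedFittingSubgroup_le hec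
  obtain ⟨k, hk⟩ := IsPGroup.iff_orderOf.mp hQ ⟨e, heQ⟩
  rw [orderOf_mk] at hk
  have heT : (e : X) ∈ T := by
    have hz : zpowers (⟨e, heF⟩ : F) ≤ normalizer ((S : Subgroup F) : Set F) :=
      le_trans (zpowers_le.mpr (mem_centralizer_iff.mpr fun s _ => Subtype.ext
        (mem_centralizer_iff.mp hec (s : X) s.2))) (centralizer_le_normalizer _)
    have hzp : IsPGroup 2 (zpowers (⟨e, heF⟩ : F)) := IsPGroup.of_card
      (n := k) (by rw [Nat.card_zpowers, orderOf_mk, orderOf_coe, hk])
    have h1 := S.is_maximal' (S.2.to_sup_of_normal_left' hzp hz) le_sup_left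
    exact (show (⟨e, heF⟩ : F) ∈ (S : Subgroup F) from
      h1.le (mem_sup_right (mem_zpowers _)))
  have hge : g * e = e * g :=
    Subtype.ext (mem_centralizer_iff.mp g.2 (e : X) heT).symm
  have hn : ∀ i : ℕ, g ^ i * q * (g ^ i)⁻¹ = e ^ i * q := by
    intro i
    induction i with
    | zero => simp
    | succ i ih =>
      have hei : g * e ^ i = e ^ i * g := (Commute.pow_right (hge : Commute g e) i).eq
      calc g ^ (i + 1) * q * (g ^ (i + 1))⁻¹
          = g * (g ^ i * q * (g ^ i)⁻¹) * g⁻¹ := by rw [pow_succ']; group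
        _ = (g * e ^ i) * q * g⁻¹ := by rw [ih]; group
        _ = e ^ i * (g * q * g⁻¹ * q⁻¹) * q := by rw [hei]; group
        _ = e ^ (i + 1) * q := by rw [← he, ← pow_succ]
  have he1 : e = 1 := by
    rw [← orderOf_eq_one_iff]
    refine Nat.eq_one_of_dvd_coprimes (Nat.Coprime.pow_right k hgo) (orderOf_dvd_of_pow_eq_one ?_)
      hk.dvd
    have h1 := hn (orderOf g)
    rw [pow_orderOf_eq_one, one_mul, inv_one, mul_one] at h1
    exact mul_eq_right.mp h1.symm
  have h2 : g * q * g⁻¹ = q := mul_inv_eq_one.mp he1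
  exact (mul_inv_eq_iff_eq_mul.mp h2).symm

/-- An odd subgroup of `C(T)` lies in `O(C(T))` for a Sylow 2-subgroup `T` of `F*(X)`. -/
theorem le_centralizerCore_of_odd (hO : Cfsg.pPrimeCore 2 X = ⊥) {T D : Subgroup X}
    (hT : IsPGroup 2 T) (hTF : T ≤ Cfsg.generalizedFittingSubgroup X)
    (hi : ¬ 2 ∣ T.relIndex (Cfsg.generalizedFittingSubgroup X))
    (hD : D ≤ centralizer (T : Set X)) (hco : (Nat.card D).Coprime 2) :
    D ≤ PLayerBasic.centralizerCore T := by
  haveI : Fact (Nat.Prime 2) := ⟨Nat.prime_two⟩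
  set C := centralizer (T : Set X)
  have h := Transfer.hasNormalPComplement_iff_forall.mp
    (hasNormalPComplement_centralizer hO hT hTF hi)
  haveI : (Cfsg.pResidual 2 C).Normal := Transfer.pResidual_normal
  intro x hx
  refine ⟨⟨x, hD hx⟩, PSolvable.le_pPrimeCore (coprime_card_of_forall h)
    (Transfer.mem_pResidual_of_coprime ?_), rfl⟩
  rw [orderOf_mk]
  exact hco.coprime_dvd_left (orderOf_dvd_natCard D hx)

/-- The extended 2-layer from one Sylow 2-subgroup given inside the group. -/
theorem extendedTwoLayer_eq_of_sylow {T : Subgroup X} (hT : IsPGroup 2 T)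
    (hTM : T ≤ Cfsg.pLayer 2 X ⊔ Cfsg.pPrimePCore 2 X)
    (hi : ¬ 2 ∣ T.relIndex (Cfsg.pLayer 2 X ⊔ Cfsg.pPrimePCore 2 X)) :
    Cfsg.extendedTwoLayer X =
      Cfsg.pLayer 2 X ⊔ Cfsg.oddCore X ⊔ PLayerBasic.centralizerCore T := by
  haveI : Fact (Nat.Prime 2) := ⟨Nat.prime_two⟩
  set M := Cfsg.pLayer 2 X ⊔ Cfsg.pPrimePCore 2 X with hM
  let S : Sylow 2 M := (hT.comap_subtype (K := M)).toSylow hi
  have hS : (S : Subgroup M).map M.subtype = T := map_subgroupOf_eq_of_le hTM
  have h := PLayerBasic.extendedTwoLayer_eq S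
  rwa [hS] at h

/-- Core balance when `O(X) = 1`. -/
theorem centralizerCore_le_of_eq_bot (hO : Cfsg.pPrimeCore 2 X = ⊥) :
    ∀ (n : ℕ) (R : Subgroup X), Nat.card (Cfsg.generalizedFittingSubgroup X) -
        Nat.card (R ⊓ Cfsg.generalizedFittingSubgroup X : Subgroup X) = n → IsPGroup 2 R →
      PLayerBasic.centralizerCore R ≤ Cfsg.extendedTwoLayer X := by
  haveI hp : Fact (Nat.Prime 2) := ⟨Nat.prime_two⟩
  haveI := Components.generalizedFittingSubgroup_normal (G := X)
  haveI : (Cfsg.layer X).Normal := Components.layer_normal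
  intro n
  induction n using Nat.strong_induction_on with
  | _ n ih =>
  intro R hn hR
  set F := Cfsg.generalizedFittingSubgroup X with hF
  set P := PLayerBasic.centralizerCore R with hP
  have hPC : P ≤ centralizer (R : Set X) := PLayerBasic.centralizerCore_le_centralizer R
  have hPco : (Nat.card P).Coprime 2 := KBalance.coprime_coreIn (centralizer (R : Set X))
  by_cases hi : ¬ 2 ∣ (R ⊓ F).relIndex F
  · refine (le_centralizerCore_of_odd hO (hR.to_le inf_le_left) inf_le_right hi
      (hPC.trans (centralizer_le inf_le_left)) hPco).trans ?_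
    rw [extendedTwoLayer_eq_of_sylow (hR.to_le inf_le_left)
      (by rw [sup_pPrimePCore_eq hO]; exact inf_le_right) (by rwa [sup_pPrimePCore_eq hO])]
    exact le_sup_right
  rw [not_not] at hi
  obtain ⟨W, hW, hW2, hlt⟩ := LBalanceTwo.exists_bigger_in_normalizer hp hR hi
  have hWN : W ≤ normalizer (R : Set X) := hW.trans inf_le_right
  have hWP : W ≤ normalizer (P : Set X) := fun w hw =>
    KBalance.normalizer_le_normalizer_coreIn (centralizer (R : Set X))
      (KBalance.mem_normalizer_of_centralizer (hWN hw))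
  have hcP : ⁅P, W⁆ ≤ P := Coprime.commutator_le_of_le_normalizer hWP
  have hcop : (Nat.card W).Coprime (Nat.card (⁅P, W⁆ : Subgroup X)) := by
    obtain ⟨k, hk⟩ := IsPGroup.iff_card.mp hW2
    rw [hk]
    exact Nat.Coprime.pow_left k (hPco.coprime_dvd_left (card_dvd_of_le hcP)).symm
  haveI : Group.IsNilpotent W := hW2.isNilpotent
  rw [← Coprime.commutator_sup_centralizer hWP hcop (Or.inl inferInstance)]
  refine sup_le (fun x hx => ?_) ?_
  · have hxF : x ∈ F :=
      (commutator_mono le_top (hW.trans inf_le_left)).trans (commutator_le_right ⊤ F) hx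
    have hxo : (orderOf x).Coprime 2 := hPco.coprime_dvd_left (orderOf_dvd_natCard P (hcP hx))
    refine mem_sup_left (mem_sup_left ?_)
    rw [Components.pLayer_of_pPrimeCore_eq_bot hO, ← QuotientGroup.eq_one_iff]
    rw [hF, Cfsg.generalizedFittingSubgroup,
      Components.fittingSubgroup_le_pCore_of_pPrimeCore_eq_bot hO] at hxF
    obtain ⟨e, he, w, hw, rfl⟩ := mem_sup_of_normal_left.mp hxF
    have hw' : (QuotientGroup.mk (e * w) : X ⧸ Cfsg.layer X) = QuotientGroup.mk w := by
      rw [QuotientGroup.mk_mul, (QuotientGroup.eq_one_iff e).mpr he, one_mul]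
    obtain ⟨m, hm⟩ := PSolvable.pCore_isPGroup (p := 2) (G := X) ⟨w, hw⟩
    refine orderOf_eq_one_iff.mp (Nat.eq_one_of_dvd_coprimes (Nat.Coprime.pow_right m hxo)
      (orderOf_map_dvd (QuotientGroup.mk' (Cfsg.layer X)) (e * w)) (orderOf_dvd_of_pow_eq_one ?_))
    rw [hw', ← QuotientGroup.mk_pow,
      show w ^ 2 ^ m = 1 by simpa using congrArg Subtype.val hm, QuotientGroup.mk_one]
  · have hR1 : IsPGroup 2 (R ⊔ W : Subgroup X) := hR.to_sup_of_normal_left' hW2 hWN
    have hlt' : Nat.card (R ⊓ F : Subgroup X) < Nat.card ((R ⊔ W) ⊓ F : Subgroup X) :=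
      (ConjFunctor.card_lt_card_of_lt hlt).trans_le
        (card_le_of_le (le_inf le_sup_right (hW.trans inf_le_left)))
    refine le_trans (KBalance.le_coreIn ?_ ?_ ?_) (ih _ (by
      have := card_le_of_le (inf_le_right : (R ⊔ W) ⊓ F ≤ F)
      omega) (R ⊔ W) rfl hR1)
    · rw [le_centralizer_iff]
      exact sup_le (le_centralizer_iff.mp (inf_le_left.trans hPC))
        (le_centralizer_iff.mp inf_le_right)
    · intro c hc
      refine LBalanceTwo.mem_normalizer_inf ?_ ?_
      · exact KBalance.normalizer_le_normalizer_coreIn (centralizer (R : Set X))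
          (le_normalizer (centralizer_le (show R ≤ R ⊔ W from le_sup_left) hc))
      · exact le_normalizer (centralizer_le (show W ≤ R ⊔ W from le_sup_right) hc)
    · exact hPco.coprime_dvd_left (card_dvd_of_le inf_le_left)

theorem extendedTwoLayer_quotient_le :
    Cfsg.extendedTwoLayer (X ⧸ Cfsg.pPrimeCore 2 X) ≤
      (Cfsg.extendedTwoLayer X).map (QuotientGroup.mk' (Cfsg.pPrimeCore 2 X)) := by
  haveI : Fact (Nat.Prime 2) := ⟨Nat.prime_two⟩
  set π := QuotientGroup.mk' (Cfsg.pPrimeCore 2 X) with hπ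
  have hOX : Cfsg.pPrimeCore 2 (X ⧸ Cfsg.pPrimeCore 2 X) = ⊥ := PSolvable.pPrimeCore_quotient_eq_bot
  set M := Cfsg.pLayer 2 X ⊔ Cfsg.pPrimePCore 2 X with hM
  have hMmap : M.map π = Cfsg.pLayer 2 (X ⧸ Cfsg.pPrimeCore 2 X) ⊔ Cfsg.pPrimePCore 2 (X ⧸ Cfsg.pPrimeCore 2 X) := by
    rw [hM, Subgroup.map_sup, hπ, Components.map_pLayer, PSolvable.map_mk'_pPrimePCore,
      Components.pLayer_of_pPrimeCore_eq_bot hOX, PSolvable.pPrimePCore_of_pPrimeCore_eq_bot hOX]
  let T : Sylow 2 M := default
  set TG := (T : Subgroup M).map M.subtype with hTG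
  have hTM : TG ≤ M := map_subtype_le _
  have hTp : IsPGroup 2 TG := T.2.map _
  have hTi : ¬ 2 ∣ (TG.map π).relIndex (M.map π) := by
    have h1 : (TG.map π).subgroupOf (M.map π) = (T : Subgroup M).map (π.subgroupMap M) := by
      ext y
      constructor
      · rintro ⟨_, ⟨t, ht, rfl⟩, hy⟩
        exact ⟨t, ht, Subtype.ext hy⟩
      · rintro ⟨t, ht, rfl⟩
        exact ⟨t, ⟨t, ht, rfl⟩, rfl⟩
    intro h
    rw [relIndex, h1] at h
    exact T.not_dvd_index (h.trans (index_map_dvd (T : Subgroup M) (π.subgroupMap_surjective M)))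
  rw [extendedTwoLayer_eq_of_sylow (hTp.map π) (hMmap ▸ map_mono hTM) (hMmap ▸ hTi)]
  refine sup_le (sup_le ?_ ?_) ?_
  · rw [Components.pLayer_of_pPrimeCore_eq_bot hOX, ← Components.map_pLayer]
    exact map_mono (le_sup_left.trans le_sup_left)
  · rw [Cfsg.oddCore, hOX]
    exact bot_le
  · set C := centralizer (TG : Set X) with hC
    set Cb := centralizer ((TG.map π : Subgroup (X ⧸ Cfsg.pPrimeCore 2 X)) : Set (X ⧸ Cfsg.pPrimeCore 2 X)) with hCb
    set D := C ⊓ (PLayerBasic.centralizerCore (TG.map π)).comap π with hD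
    have hCC : Cb = C.map π :=
      PSolvable.centralizer_map_mk' _ PSolvable.pPrimeCore_coprime hTp
    have hDco : D ≤ PLayerBasic.centralizerCore TG := by
      refine KBalance.le_coreIn inf_le_left (fun c hc => ?_)
        (coprime_card_of_forall fun d hd => ?_)
      · refine LBalanceTwo.mem_normalizer_inf (le_normalizer hc)
          (PSolvable.mem_normalizer_of_conj_mem fun d hd => ?_)
        rw [mem_comap, map_mul, map_mul, map_inv]
        have hcb : π c ∈ normalizer (PLayerBasic.centralizerCore (TG.map π) : Set (X ⧸ Cfsg.pPrimeCore 2 X)) :=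
          KBalance.normalizer_le_normalizer_coreIn Cb
            (le_normalizer (hCC ▸ mem_map_of_mem π hc))
        exact (mem_normalizer_iff.mp hcb _).mp hd
      · have h1 : (orderOf (π d)).Coprime 2 := (KBalance.coprime_coreIn Cb).coprime_dvd_left
          (orderOf_dvd_natCard _ hd.2)
        have h2 : d ^ orderOf (π d) ∈ Cfsg.pPrimeCore 2 X :=
          (QuotientGroup.eq_one_iff _).mp ((map_pow π d _).trans (pow_orderOf_eq_one _))
        refine Nat.Coprime.coprime_dvd_left ?_
          (h1.mul_left (PSolvable.pPrimeCore_coprime (p := 2) (G := X)))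
        refine orderOf_dvd_of_pow_eq_one ?_
        rw [pow_mul]
        exact congrArg Subtype.val (pow_card_eq_one' (x := (⟨_, h2⟩ : Cfsg.pPrimeCore 2 X)))
    intro y hy
    obtain ⟨c, hc, rfl⟩ := hCC.le (PLayerBasic.centralizerCore_le_centralizer _ hy)
    refine mem_map_of_mem π ?_
    rw [extendedTwoLayer_eq_of_sylow hTp hTM (by
      rw [hTG, relIndex, ← comap_subtype, comap_map_eq_self_of_injective M.subtype_injective]
      exact T.not_dvd_index)]
    exact mem_sup_right (hDco ⟨hc, hy⟩)

/-- **Core balance**: `O(C_X(R)) ≤ L*_{2'}(X)`. -/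
theorem centralizerCore_le {R : Subgroup X} (hR : IsPGroup 2 R) :
    PLayerBasic.centralizerCore R ≤ Cfsg.extendedTwoLayer X := by
  haveI : Fact (Nat.Prime 2) := ⟨Nat.prime_two⟩
  set O₀ := Cfsg.pPrimeCore 2 X with hO₀
  set π := QuotientGroup.mk' O₀ with hπ
  have hle : (PLayerBasic.centralizerCore R).map π ≤ PLayerBasic.centralizerCore (R.map π) := by
    have hCC := PSolvable.centralizer_map_mk' O₀ PSolvable.pPrimeCore_coprime hR
    refine KBalance.le_coreIn
      ((map_mono (PLayerBasic.centralizerCore_le_centralizer R)).trans hCC.ge) ?_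
      ((KBalance.coprime_coreIn (centralizer (R : Set X))).coprime_dvd_left (card_map_dvd _ _))
    rw [hCC]
    exact (map_mono (le_normalizer.trans
      (KBalance.normalizer_le_normalizer_coreIn (centralizer (R : Set X))))).trans
      (le_normalizer_map π)
  have h := (hle.trans (centralizerCore_le_of_eq_bot PSolvable.pPrimeCore_quotient_eq_bot _ _ rfl
    (hR.map π))).trans extendedTwoLayer_quotient_le
  rw [map_le_iff_le_comap, comap_map_eq, QuotientGroup.ker_mk',
    sup_eq_left.mpr (show O₀ ≤ Cfsg.extendedTwoLayer X from (le_sup_right : O₀ ≤ Cfsg.pLayer 2 X ⊔ O₀).trans le_sup_left)] at h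
  exact h

theorem coreIn_map {A : Type u} [Group A] [Finite A] {f : A →* X} (hf : Function.Injective f)
    (H : Subgroup A) : (KBalance.coreIn 2 H).map f = KBalance.coreIn 2 (H.map f) := by
  have h := PSolvable.map_pPrimeCore_equiv (p := 2) (H.equivMapOfInjective f hf)
  rw [KBalance.coreIn, KBalance.coreIn, ← h, Subgroup.map_map, Subgroup.map_map]
  congr 1

/-- Balance of the extended 2-layer for an injective `f : A → X` whose range is normal in the
centraliser of a 2-subgroup `R`. -/
theorem map_extendedTwoLayer_le {A : Type u} [Group A] [Finite A] {f : A →* X}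
    (hf : Function.Injective f) {R : Subgroup X} (hR : IsPGroup 2 R)
    (hA : f.range ≤ centralizer (R : Set X))
    (hn : centralizer (R : Set X) ≤ normalizer (f.range : Set X)) :
    (Cfsg.extendedTwoLayer A).map f ≤ Cfsg.extendedTwoLayer X := by
  haveI : Fact (Nat.Prime 2) := ⟨Nat.prime_two⟩
  set N := centralizer (R : Set X) with hN
  have key : ∀ (T H : Subgroup A), IsPGroup 2 T → H.map f = f.range ⊓ centralizer ((T.map f) : Set X) →
      (KBalance.coreIn 2 H).map f ≤ Cfsg.extendedTwoLayer X := by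
    intro T H hT hH
    have hTR : IsPGroup 2 (R ⊔ T.map f : Subgroup X) :=
      hR.to_sup_of_normal_left' (hT.map f)
        (((map_le_range f T).trans hA).trans (centralizer_le_normalizer _))
    refine le_trans ?_ (centralizerCore_le hTR)
    rw [coreIn_map hf, hH]
    refine KBalance.le_coreIn ((KBalance.coreIn_le _).trans ?_) ?_ (KBalance.coprime_coreIn _)
    · rw [le_centralizer_iff]
      exact sup_le (le_centralizer_iff.mp (inf_le_left.trans hA))
        (le_centralizer_iff.mp inf_le_right)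
    · refine le_trans (fun c hc => LBalanceTwo.mem_normalizer_inf
        (hn (centralizer_le (show R ≤ R ⊔ T.map f from le_sup_left) hc))
        (le_normalizer (centralizer_le (show T.map f ≤ R ⊔ T.map f from le_sup_right) hc)))
        (KBalance.normalizer_le_normalizer_coreIn _)
  have hinf : ∀ T : Subgroup A, (centralizer (T : Set A)).map f =
      f.range ⊓ centralizer ((T.map f) : Set X) := by
    intro T
    ext y
    constructor
    · rintro ⟨a, ha, rfl⟩
      refine ⟨⟨a, rfl⟩, mem_centralizer_iff.mpr ?_⟩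
      rintro _ ⟨t, ht, rfl⟩
      rw [← map_mul, ← map_mul, mem_centralizer_iff.mp ha t ht]
    · rintro ⟨⟨a, rfl⟩, ha⟩
      exact ⟨a, mem_centralizer_iff.mpr fun t ht => hf (by
        rw [map_mul, map_mul]
        exact mem_centralizer_iff.mp ha (f t) (mem_map_of_mem f ht)), rfl⟩
  rw [Cfsg.extendedTwoLayer, Subgroup.map_sup, Subgroup.map_sup, Subgroup.map_iSup]
  refine sup_le (sup_le ?_ ?_) (iSup_le fun T => key _ _ (T.2.map _) (hinf _))
  · let g : A →* N := f.codRestrict N fun a => hA ⟨a, rfl⟩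
    have hg : Function.Injective g := fun a b h => hf (congrArg Subtype.val h)
    have hgr : g.range = f.range.subgroupOf N := by
      ext y
      exact ⟨fun ⟨a, ha⟩ => ⟨a, congrArg Subtype.val ha⟩, fun ⟨a, ha⟩ => ⟨a, Subtype.ext ha⟩⟩
    haveI : g.range.Normal := hgr ▸ normal_subgroupOf_of_le_normalizer hn
    refine le_trans ?_ ((ZStar.LBalance.pLayer_centralizer_le hR).trans (le_sup_left.trans le_sup_left))
    rw [show f = N.subtype.comp g from rfl, ← Subgroup.map_map]
    refine map_mono (map_le_iff_le_comap.mpr (sSup_le fun K hK => map_le_iff_le_comap.mp ?_))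
    refine Components.isPComponent_le_pLayer
      (Components.isPComponent_map_of_injective hK hg ?_)
    have h1 := (Components.subnormal_map_equiv (MonoidHom.ofInjective hg) hK.1).trans'
      (inferInstance : g.range.Normal).isSubnormal
    rw [Subgroup.map_map] at h1
    exact h1
  · have h1 := key ⊥ ⊤ IsPGroup.of_bot (by
      rw [← hinf ⊥]
      congr 1
      refine (eq_top_iff.mpr fun z _ => mem_centralizer_iff.mpr fun t ht => ?_).symm
      rw [SetLike.mem_coe, mem_bot] at ht
      rw [ht, one_mul, mul_one])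
    rwa [KBalance.coreIn, ← show (Subgroup.topEquiv (G := A)).toMonoidHom =
        (⊤ : Subgroup A).subtype from rfl, PSolvable.map_pPrimeCore_equiv] at h1

end Cfsg.Agent.Lib.CoreBalance
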